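import Cfsg.Agent.H892.EP.Rows
import Cfsg.Agent.H653.Sieve.Cols
import Cfsg.Agent.SmallSimple.TheoremBCor

/-!
# S4929 (TEAM EVP): characters of even degree in principal blocks with Sylow subgroups of prime order (helper217)

`evAt_of_srch` : the Sylow `p`-subgroup `P` has order `p`, `e = |N(P) : C(P)|`. If no character of the principal
`p`-block has even degree, then its `e` nonexceptional characters satisfy `∑ ε χ(1) = d Θ(1)` and the same relation for
every combination `V` of the values at `p`-regular elements; `srch` looks for the solutions.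
-/

set_option autoImplicit false

namespace Cfsg.Agent.H217.EP

open Cfsg Subgroup Cfsg.Agent.Characters.Core Cfsg.Agent.H892.EP

universe u

/-! ### The search -/

/-- the sum `s` of `n` members of `A` is between the obvious bounds -/
def bd (A : List (ℤ × ℤ)) (n : ℕ) (s : ℤ) : Bool :=
  A.any (fun a => decide ((n : ℤ) * a.1 ≤ s)) && A.any (fun a => decide (s ≤ (n : ℤ) * a.1))

def loop (a : ℤ × ℤ) (k : ℕ → ℤ → ℤ → Bool) : ℕ → ℤ → ℤ → Bool
  | 0, s, w => k 0 s w
  | n + 1, s, w => k (n + 1) s w || loop a k n (s - a.1) (w - a.2)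

/-- Is `(s, w)` the sum of `n` members of `A` (repetitions allowed)? -/
def srch : List (ℤ × ℤ) → ℕ → ℤ → ℤ → Bool
  | [], n, s, w => Nat.beq n 0 && decide (s = 0) && decide (w = 0)
  | a :: A, n, s, w => bd (a :: A) n s && loop a (srch A) n s w

theorem loop_of {a : ℤ × ℤ} {k : ℕ → ℤ → ℤ → Bool} {A : List (ℤ × ℤ)}
    (hk : ∀ l : List (ℤ × ℤ), (∀ x ∈ l, x ∈ A) → k l.length (l.map Prod.fst).sum (l.map Prod.snd).sum = true) :
    ∀ (n : ℕ) (l : List (ℤ × ℤ)), l.length = n → (∀ x ∈ l, x ∈ a :: A) →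
      loop a k n (l.map Prod.fst).sum (l.map Prod.snd).sum = true
  | 0, l, hn, h => by
    obtain rfl := List.eq_nil_of_length_eq_zero hn
    exact hk [] (by simp)
  | n + 1, l, hn, h => by
    rw [loop, Bool.or_eq_true]
    by_cases ha : a ∈ l
    · right
      have hp := List.perm_cons_erase ha
      have h1 := (hp.map Prod.fst).sum_eq
      have h2 := (hp.map Prod.snd).sum_eq
      have h3 := hp.length_eq
      rw [List.map_cons, List.sum_cons] at h1 h2
      rw [List.length_cons, hn] at h3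
      have h4 := loop_of hk n (l.erase a) (by omega) fun x hx => h x (List.mem_of_mem_erase hx)
      rw [h1, h2, add_sub_cancel_left, add_sub_cancel_left]
      exact h4
    · left
      have h1 := hk l fun x hx => (List.mem_cons.1 (h x hx)).resolve_left (by rintro rfl; exact ha hx)
      rwa [hn] at h1

theorem sum_lt {s n : ℤ} : ∀ {l : List (ℤ × ℤ)}, l ≠ [] → (∀ x ∈ l, s < n * x.1) →
    (l.length : ℤ) * s < n * (l.map Prod.fst).sum
  | [x], _, h => by
    have := h x (by simp)
    simpa using this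
  | x :: y :: l, _, h => by
    have h1 := h x (by simp)
    have h2 := sum_lt (l := y :: l) (by simp) fun z hz => h z (List.mem_cons_of_mem _ hz)
    rw [List.map_cons, List.sum_cons, List.length_cons]
    push_cast at h2 ⊢
    linarith

theorem lt_sum {s n : ℤ} : ∀ {l : List (ℤ × ℤ)}, l ≠ [] → (∀ x ∈ l, n * x.1 < s) →
    n * (l.map Prod.fst).sum < (l.length : ℤ) * s
  | [x], _, h => by
    have := h x (by simp)
    simpa using this
  | x :: y :: l, _, h => by
    have h1 := h x (by simp)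
    have h2 := lt_sum (l := y :: l) (by simp) fun z hz => h z (List.mem_cons_of_mem _ hz)
    rw [List.map_cons, List.sum_cons, List.length_cons]
    push_cast at h2 ⊢
    linarith

theorem bd_of {a : ℤ × ℤ} {A l : List (ℤ × ℤ)} (h : ∀ x ∈ l, x ∈ a :: A) :
    bd (a :: A) l.length (l.map Prod.fst).sum = true := by
  rw [bd, Bool.and_eq_true, List.any_eq_true, List.any_eq_true]
  by_cases hl : l = []
  · subst hl
    exact ⟨⟨a, by simp, by simp⟩, ⟨a, by simp, by simp⟩⟩
  · constructor
    · by_contra hc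
      push Not at hc
      have h1 := sum_lt (s := (l.map Prod.fst).sum) (n := (l.length : ℤ)) hl fun x hx => by
        have := hc x (h x hx)
        rw [Ne, decide_eq_true_eq, not_le] at this
        exact this
      exact lt_irrefl _ h1
    · by_contra hc
      push Not at hc
      have h1 := lt_sum (s := (l.map Prod.fst).sum) (n := (l.length : ℤ)) hl fun x hx => by
        have := hc x (h x hx)
        rw [Ne, decide_eq_true_eq, not_le] at this
        exact this
      exact lt_irrefl _ h1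

theorem srch_of : ∀ (A : List (ℤ × ℤ)) (l : List (ℤ × ℤ)), (∀ x ∈ l, x ∈ A) →
    srch A l.length (l.map Prod.fst).sum (l.map Prod.snd).sum = true
  | [], l, h => by
    have : l = [] := List.eq_nil_iff_forall_not_mem.2 fun x hx => by simpa using h x hx
    subst this
    rfl
  | a :: A, l, h => by
    rw [srch, Bool.and_eq_true]
    exact ⟨bd_of h, loop_of (srch_of A) _ l rfl h⟩

/-! ### The candidates -/

/-- The lists of candidates are complete. -/
def candOK (N p e : ℕ) (wv : ℕ → List ℤ) (A B : List (ℤ × ℤ)) (d : ℕ) : Bool :=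
  bif Nat.ble N (d * d) then true else bif Nat.beq (d % 2) 0 then true else bif Nat.beq d 1 then true else
    (wv d).all fun w =>
      (!(Nat.beq (d % p) 1) || A.contains ((d : ℤ), w)) &&
      (!(Nat.beq (d % p) (p - 1)) || A.contains (-(d : ℤ), -w)) &&
      (!(Nat.beq (d % p) (e % p)) || B.contains ((d : ℤ), w)) &&
      (!(Nat.beq (d % p) ((p - e % p) % p)) || B.contains (-(d : ℤ), -w))

variable {G : Type u} [Group G]

theorem lt_of_ne_one [Finite G] {N : ℕ} (hN : Nat.card G = N) {χ : IrrCharacter G} (hχ : (χ : G → ℂ) ≠ 1) :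
    charDegree (χ : G → ℂ) * charDegree (χ : G → ℂ) < N := by
  classical
  have := finite_irr (G := G)
  have := Fintype.ofFinite (IrrCharacter G)
  have := Fintype.ofFinite G
  let o : IrrCharacter G := ⟨1, isIrr_one⟩
  have ho : χ ≠ o := fun h => hχ (congrArg Subtype.val h)
  have hc : charDegree (o : G → ℂ) = 1 := by
    unfold charDegree
    simp [o]
  have h3 := SmallSimple.DegreeData.sum_sq (G := G)
  have h4 : ∑ χ' ∈ ({χ, o} : Finset (IrrCharacter G)), charDegree (χ' : G → ℂ) ^ 2 ≤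
      ∑ χ' : IrrCharacter G, charDegree (χ' : G → ℂ) ^ 2 :=
    Finset.sum_le_sum_of_subset_of_nonneg (Finset.subset_univ _) fun χ' _ _ => by positivity
  rw [Finset.sum_pair ho, h3, hc, hN] at h4
  nlinarith

/-- **The search proves the existence of a character of even degree.** -/
theorem evAt_of_srch [Finite G] {p : ℕ} [hp : Fact p.Prime] (hp2 : p ≠ 2) (P : Sylow p G)
    (hP : Nat.card P = p) {e t : ℕ} (he : (centralizer (P : Set G)).relIndex (normalizer (P : Set G)) = e)
    (ht : e * t = p - 1) (N : ℕ) (hN : Nat.card G = N)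
    (hone : ∀ χ : IrrCharacter G, charDegree (χ : G → ℂ) = 1 → (χ : G → ℂ) = 1)
    (V : IrrCharacter G → ℤ) (hV : ∃ (S : Finset G) (f : G → ℂ),
      (∀ χ : IrrCharacter G, (V χ : ℂ) = ∑ g ∈ S, f g * (χ : G → ℂ) g) ∧ ∀ g ∈ S, ¬ p ∣ orderOf g)
    (v : ℤ) (hv : ∀ χ : IrrCharacter G, (χ : G → ℂ) = 1 → V χ = v)
    (wv : ℕ → List ℤ) (hwv : ∀ χ : IrrCharacter G, V χ ∈ wv (charDegree (χ : G → ℂ)))
    (L : List (ℕ × ℕ)) (hL : (L.all fun pa => Nat.Prime pa.1) = true) (hLN : H653.Sieve.facProd L = N)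
    (A B : List (ℤ × ℤ))
    (hc : H653.Sieve.allDiv N (candOK N p e wv A B) L 1 = true)
    (hs : (B.all fun b => !(srch A (e - 1) (b.1 - 1) (b.2 - v))) = true) : EvAt p G := by
  classical
  have hpp : p.Prime := Fact.out
  have hp0 : 0 < p := hpp.pos
  have hp3 : 3 ≤ p := by have := hpp.two_le; omega
  have he0 : 0 < e := by
    rcases Nat.eq_zero_or_pos e with h | h
    · rw [h, zero_mul] at ht; omega
    · exact h
  have ht0 : 0 < t := by
    rcases Nat.eq_zero_or_pos t with h | h
    · rw [h, mul_zero] at ht; omega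
    · exact h
  have := Fintype.ofFinite G
  intro M hM
  by_contra hno
  push Not at hno
  obtain ⟨NE, X, ε, d, S, hB, hdis, hNE, hX, hε, hd, ⟨χ₁, hχ₁, h1, hε1⟩, hval, hX2, -, hrel⟩ :=
    SmallSimple.TheoremB.theoremB p hp2 M hM P hP e t he ht
  have hD : ∀ χ : IrrCharacter G, (χ : G → ℂ) 1 = (charDegree (χ : G → ℂ) : ℂ) := fun χ =>
    Blocks.Knorr.charDegree_eq χ.2
  have hreg : ¬ p ∣ orderOf (1 : G) := by rw [orderOf_one]; exact hpp.one_lt.ne' ∘ Nat.dvd_one.1
  -- the check
  have hchk : ∀ χ : IrrCharacter G, χ ∈ principalBlock M G → (χ : G → ℂ) ≠ 1 →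
      ((charDegree (χ : G → ℂ) % p = 1 → ((charDegree (χ : G → ℂ) : ℤ), V χ) ∈ A) ∧
        (charDegree (χ : G → ℂ) % p = p - 1 → (-(charDegree (χ : G → ℂ) : ℤ), -V χ) ∈ A)) ∧
      ((charDegree (χ : G → ℂ) % p = e % p → ((charDegree (χ : G → ℂ) : ℤ), V χ) ∈ B) ∧
        (charDegree (χ : G → ℂ) % p = (p - e % p) % p → (-(charDegree (χ : G → ℂ) : ℤ), -V χ) ∈ B)) := by
    intro χ hχ hne
    have hlt := lt_of_ne_one hN hne
    have hdvd : charDegree (χ : G → ℂ) ∣ H653.Sieve.facProd L := by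
      rw [hLN, ← hN]
      exact Blocks.Knorr.charDegree_dvd χ.2
    have hpr : ∀ pa ∈ L, pa.1.Prime := by
      intro pa hpa
      have := List.all_eq_true.1 hL pa hpa
      simpa using this
    have h3 := H653.Sieve.allDiv_spec hpr hc (charDegree (χ : G → ℂ)) hdvd (by rwa [one_mul])
    rw [one_mul] at h3
    have h4 : Nat.ble N (charDegree (χ : G → ℂ) * charDegree (χ : G → ℂ)) = false := by
      rw [Bool.eq_false_iff]
      intro h5
      exact absurd (Nat.le_of_ble_eq_true h5) (by omega)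
    have h5 : Nat.beq (charDegree (χ : G → ℂ)) 1 = false := by
      rw [Bool.eq_false_iff]
      intro h6
      exact hne (hone χ (Nat.eq_of_beq_eq_true h6))
    have h6 : Nat.beq (charDegree (χ : G → ℂ) % 2) 0 = false := by
      rw [Bool.eq_false_iff]
      intro h7
      exact hno χ hχ (Nat.dvd_of_mod_eq_zero (Nat.eq_of_beq_eq_true h7))
    rw [candOK, h4, cond_false, h6, cond_false, h5, cond_false] at h3
    have h7 := List.all_eq_true.1 h3 _ (hwv χ)
    simp only [Bool.and_eq_true, Bool.or_eq_true, Bool.not_eq_true', List.contains_iff_mem] at h7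
    obtain ⟨⟨⟨a1, a2⟩, a3⟩, a4⟩ := h7
    have key : ∀ {a b : ℕ} {Q : Prop}, (Nat.beq a b = false ∨ Q) → a = b → Q := by
      intro a b Q h hab
      rcases h with h | h
      · subst hab
        rw [Nat.beq_refl] at h
        exact absurd h (by decide)
      · exact h
    exact ⟨⟨fun h => key a1 h, fun h => key a2 h⟩, ⟨fun h => key a3 h, fun h => key a4 h⟩⟩
  -- the nonexceptional characters
  have hA : ∀ χ ∈ NE, χ ≠ χ₁ → (ε χ * (charDegree (χ : G → ℂ) : ℤ), ε χ * V χ) ∈ A := by
    intro χ hχ hne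
    have hne' : (χ : G → ℂ) ≠ 1 := fun h => hne (Subtype.ext (h.trans h1.symm))
    obtain ⟨m, hm⟩ := SmallSimple.TheoremBCor.degree_nonexc (P := (P : Subgroup G)) hP (isIrr_isCharacter χ.2)
      (ε := ε χ) (fun x hx hx1 => by
        have := hval χ hχ x hx hx1 1 (one_mem _) hreg
        rwa [mul_one] at this)
    rw [hD] at hm
    have hm' : (charDegree (χ : G → ℂ) : ℤ) = ε χ + p * ((m : ℤ) - ε χ) := by exact_mod_cast hm
    have hk := (hchk χ ((hB χ).2 (Or.inl hχ)) hne').1
    rcases hε χ hχ with h | h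
    · rw [h, one_mul, one_mul]
      refine hk.1 ?_
      have h2 : (p : ℤ) ∣ (charDegree (χ : G → ℂ) : ℤ) - (1 : ℕ) := by
        rw [hm', h]
        exact ⟨(m : ℤ) - 1, by push_cast; ring⟩
      have h3 := H653.Sieve.mod_eq_of_dvd_sub h2
      rw [h3]
      exact Nat.mod_eq_of_lt (by omega)
    · rw [h, neg_one_mul, neg_one_mul]
      refine hk.2 ?_
      have h2 : (p : ℤ) ∣ (charDegree (χ : G → ℂ) : ℤ) + (1 : ℕ) := by
        rw [hm', h]
        exact ⟨(m : ℤ) + 1, by push_cast; ring⟩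
      have h3 := H653.Sieve.mod_eq_of_dvd_add hp0 h2
      rw [h3, Nat.mod_eq_of_lt (show 1 < p by omega)]
      exact Nat.mod_eq_of_lt (by omega)
  -- an exceptional character
  obtain ⟨Θ, hΘ⟩ : X.Nonempty := by
    rw [← Finset.card_pos, hX]
    exact ht0
  have hΘne : (Θ : G → ℂ) ≠ 1 := by
    intro h
    have h11 : χ₁ = Θ := Subtype.ext (h1.trans h.symm)
    exact Finset.disjoint_left.1 hdis hχ₁ (h11 ▸ hΘ)
  have hBΘ : (d * (charDegree (Θ : G → ℂ) : ℤ), d * V Θ) ∈ B := by
    obtain ⟨hSc, hS1, hSv⟩ := hX2 Θ hΘ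
    obtain ⟨m, hm⟩ := SmallSimple.TheoremBCor.degree_exc (P := (P : Subgroup G)) hP (isIrr_isCharacter Θ.2)
      (d := d) hS1 (fun x hx => by
        have := hSv x hx 1 (one_mem _) hreg
        rwa [mul_one] at this)
    rw [hD, hSc] at hm
    have hm' : (charDegree (Θ : G → ℂ) : ℤ) = d * e + p * (m : ℤ) := by exact_mod_cast hm
    have hk := (hchk Θ ((hB Θ).2 (Or.inr hΘ)) hΘne).2
    rcases hd with h | h
    · rw [h, one_mul, one_mul]
      refine hk.1 ?_
      exact H653.Sieve.mod_eq_of_dvd_sub ⟨(m : ℤ), by rw [hm', h]; ring⟩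
    · rw [h, neg_one_mul, neg_one_mul]
      refine hk.2 ?_
      exact H653.Sieve.mod_eq_of_dvd_add hp0 ⟨(m : ℤ), by rw [hm', h]; ring⟩
  -- the relations
  have hr1 : ∑ χ ∈ NE, ε χ * (charDegree (χ : G → ℂ) : ℤ) = d * (charDegree (Θ : G → ℂ) : ℤ) := by
    have h2 := hrel Θ hΘ 1 hreg
    simp only [hD] at h2
    exact_mod_cast h2
  have hr2 : ∑ χ ∈ NE, ε χ * V χ = d * V Θ := by
    obtain ⟨T, f, hf, hT⟩ := hV
    have h2 : ∑ χ ∈ NE, (ε χ : ℂ) * (V χ : ℂ) = (d : ℂ) * (V Θ : ℂ) := by
      simp only [hf]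
      calc ∑ χ ∈ NE, (ε χ : ℂ) * ∑ g ∈ T, f g * (χ : G → ℂ) g =
          ∑ g ∈ T, f g * ∑ χ ∈ NE, (ε χ : ℂ) * (χ : G → ℂ) g := by
            simp only [Finset.mul_sum]
            rw [Finset.sum_comm]
            refine Finset.sum_congr rfl fun g _ => Finset.sum_congr rfl fun χ _ => ?_
            ring
        _ = ∑ g ∈ T, f g * (d * (Θ : G → ℂ) g) :=
            Finset.sum_congr rfl fun g hg => by rw [hrel Θ hΘ g (hT g hg)]
        _ = _ := by
            rw [Finset.mul_sum]
            exact Finset.sum_congr rfl fun g _ => by ring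
    exact_mod_cast h2
  have hd1 : charDegree (χ₁ : G → ℂ) = 1 := by
    unfold charDegree
    rw [h1]
    simp
  rw [← Finset.add_sum_erase _ _ hχ₁, hε1, hd1] at hr1
  rw [← Finset.add_sum_erase _ _ hχ₁, hε1, hv χ₁ h1] at hr2
  -- the list
  set l : List (ℤ × ℤ) := (NE.erase χ₁).toList.map fun χ => (ε χ * (charDegree (χ : G → ℂ) : ℤ), ε χ * V χ) with hl
  have hl1 : l.length = e - 1 := by
    rw [hl, List.length_map, Finset.length_toList, Finset.card_erase_of_mem hχ₁, hNE]
  have hl2 : (l.map Prod.fst).sum = d * (charDegree (Θ : G → ℂ) : ℤ) - 1 := by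
    rw [hl, List.map_map]
    have h2 := Finset.sum_map_toList (NE.erase χ₁) fun χ => ε χ * (charDegree (χ : G → ℂ) : ℤ)
    rw [← hr1]
    simp only [Nat.cast_one, one_mul, add_sub_cancel_left]
    rw [← h2]
    rfl
  have hl3 : (l.map Prod.snd).sum = d * V Θ - v := by
    rw [hl, List.map_map]
    have h2 := Finset.sum_map_toList (NE.erase χ₁) fun χ => ε χ * V χ
    rw [← hr2, one_mul, add_sub_cancel_left, ← h2]
    rfl
  have h2 := srch_of A l (fun x hx => by
    rw [hl, List.mem_map] at hx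
    obtain ⟨χ, hχ, rfl⟩ := hx
    rw [Finset.mem_toList, Finset.mem_erase] at hχ
    exact hA χ hχ.2 hχ.1)
  rw [hl1, hl2, hl3] at h2
  have h3 := List.all_eq_true.1 hs _ hBΘ
  simp only [h2] at h3
  exact absurd h3 (by decide)

end Cfsg.Agent.H217.EP
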