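import Cfsg.Agent.H653.Sieve.Cols
import Cfsg.Agent.H217.EP.Tool

/-!
# S4929 (TEAM EVP): orbits of linear characters and strict columns (helper217)

`P` a Sylow `p`-subgroup of order `p`, `C(P) = P × K`.
* `orb_six` : if `|K| = 6`, the orbits of `N(P)` on the linear characters of `K` have at most two members;
* `orb_eight` : the same if `K` is a dihedral group of order 8;
* `exists_rel` : `|N(P) : C(P)|` from the orders;
* `exists_col_strict` : the column of `P` does not take the values `3`, `-3` if `t = 1`.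
-/

set_option autoImplicit false
set_option linter.unusedSectionVars false

namespace Cfsg.Agent.H217.EP

open Cfsg Subgroup Cfsg.Agent.Characters.Core
open Cfsg.Agent.SmallSimple.ThetaSetup Cfsg.Agent.SmallSimple.ThetaOrtho Cfsg.Agent.SmallSimple.TheoremC

universe u

variable {G : Type u} [Group G] [Finite G] {p : ℕ} [Fact p.Prime] {P : Sylow p G} {K : Subgroup G}

/-- an orbit of linear characters determined by two values -/
theorem orb_le_two (hK : IsComp p (P : Subgroup G) K) {θ : IrrCharacter K} (h1 : (θ : K → ℂ) 1 = 1) (b c : K)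
    (hgen : ∀ f g : K →* ℂˣ, f b = g b → f c = g c → f = g) (u v : ℂ × ℂ)
    (huv : ∀ (n : G) (hn : n ∈ normalizer ((P : Subgroup G) : Set G)),
      ((θ : K → ℂ) ⟨n * b * n⁻¹, conj_mem hK hn b.2⟩, (θ : K → ℂ) ⟨n * c * n⁻¹, conj_mem hK hn c.2⟩) = u ∨
      ((θ : K → ℂ) ⟨n * b * n⁻¹, conj_mem hK hn b.2⟩, (θ : K → ℂ) ⟨n * c * n⁻¹, conj_mem hK hn c.2⟩) = v) :
    (orb P K (θ : K → ℂ)).card ≤ 2 := by
  classical
  have := finite_irr (G := G)
  have := Fintype.ofFinite (IrrCharacter G)
  have h2 : (orb P K (θ : K → ℂ)).card ≤ ({u, v} : Finset (ℂ × ℂ)).card := by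
    refine Finset.card_le_card_of_injOn (fun θ' : IrrCharacter K => ((θ' : K → ℂ) b, (θ' : K → ℂ) c)) ?_ ?_
    · intro θ' hθ'
      obtain ⟨n, hn, h⟩ := mem_orb.1 (Finset.mem_coe.1 hθ')
      simp only [Finset.coe_insert, Finset.coe_singleton, Set.mem_insert_iff, Set.mem_singleton_iff]
      rw [← h, tw_apply hK _ hn, tw_apply hK _ hn]
      exact huv n hn
    · intro θ' hθ' θ'' hθ'' h
      have e1 : (θ' : K → ℂ) 1 = 1 := (H653.Sieve.orb_apply_one hK (Finset.mem_coe.1 hθ')).trans h1
      have e2 : (θ'' : K → ℂ) 1 = 1 := (H653.Sieve.orb_apply_one hK (Finset.mem_coe.1 hθ'')).trans h1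
      obtain ⟨f, hf⟩ := Cfsg.Agent.Characters.Linear.exists_hom_of_isIrrCharacter θ'.2 e1
      obtain ⟨g, hg⟩ := Cfsg.Agent.Characters.Linear.exists_hom_of_isIrrCharacter θ''.2 e2
      simp only [Prod.mk.injEq] at h
      rw [hf, hg] at h
      have h3 := hgen f g (Units.ext h.1) (Units.ext h.2)
      apply Subtype.ext
      rw [hf, hg, h3]
  exact h2.trans Finset.card_le_two

theorem orb_six (hK : IsComp p (P : Subgroup G) K) (h6 : Nat.card K = 6) {θ : IrrCharacter K}
    (h1 : (θ : K → ℂ) 1 = 1) : (orb P K (θ : K → ℂ)).card ≤ 2 := by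
  classical
  obtain ⟨f, hf⟩ := Cfsg.Agent.Characters.Linear.exists_hom_of_isIrrCharacter θ.2 h1
  have : Fact (Nat.Prime 3) := ⟨Nat.prime_three⟩
  have : Fact (Nat.Prime 2) := ⟨Nat.prime_two⟩
  obtain ⟨c, hc⟩ := exists_prime_orderOf_dvd_card' (G := K) 3 (by rw [h6]; norm_num)
  obtain ⟨b, hb⟩ := exists_prime_orderOf_dvd_card' (G := K) 2 (by rw [h6]; norm_num)
  have hc3 : c ^ 3 = 1 := by rw [← hc, pow_orderOf_eq_one]
  have hb2 : b ^ 2 = 1 := by rw [← hb, pow_orderOf_eq_one]
  have hi : (zpowers c).index = 2 := by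
    have h2 := Subgroup.card_mul_index (zpowers c)
    rw [Nat.card_zpowers, hc, h6] at h2
    omega
  have hmem : ∀ x : K, x ^ 3 = 1 → x ∈ zpowers c := by
    intro x hx
    have h2 := Subgroup.sq_mem_of_index_two hi x
    have h3 : x = (x ^ 2) ^ 2 := by
      rw [← pow_mul]
      calc x = x ^ 3 * x := by rw [hx, one_mul]
        _ = x ^ (2 * 2) := by rw [← pow_succ]
    rw [h3]
    exact pow_mem h2 2
  have hpow : ∀ x ∈ zpowers c, x = 1 ∨ x = c ∨ x = c⁻¹ := by
    intro x hx
    have h2 : x ∈ Submonoid.powers c := (mem_powers_iff_mem_zpowers).2 hx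
    rw [mem_powers_iff_mem_range_orderOf, hc] at h2
    obtain ⟨k, hk, rfl⟩ := Finset.mem_image.1 h2
    rw [Finset.mem_range] at hk
    interval_cases k
    · exact Or.inl (pow_zero c)
    · exact Or.inr (Or.inl (pow_one c))
    · refine Or.inr (Or.inr ?_)
      rw [eq_inv_iff_mul_eq_one, ← pow_succ, hc3]
  have hbn : b ∉ zpowers c := by
    intro h
    have h2 := orderOf_dvd_of_mem_zpowers h
    rw [hb, hc] at h2
    omega
  refine orb_le_two hK h1 b c ?_ ((f b : ℂ), (f c : ℂ)) ((f b : ℂ), (f c⁻¹ : ℂ)) ?_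
  · intro f g h2 h3
    ext x
    congr 1
    have h4 : ∀ y ∈ zpowers c, f y = g y := by
      intro y hy
      obtain ⟨k, rfl⟩ := mem_zpowers_iff.1 hy
      rw [map_zpow, map_zpow, h3]
    by_cases hx : x ∈ zpowers c
    · exact h4 x hx
    · have h5 : x * b ∈ zpowers c := (Subgroup.mul_mem_iff_of_index_two hi).2 (by tauto)
      have h6 := h4 _ h5
      rw [map_mul, map_mul, h2] at h6
      exact mul_right_cancel h6
  · intro n hn
    rw [hf]
    set b' : K := ⟨n * b * n⁻¹, conj_mem hK hn b.2⟩ with hb'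
    set c' : K := ⟨n * c * n⁻¹, conj_mem hK hn c.2⟩ with hc'
    have e1 : f b' = f b := by
      have h2 : b' ^ 2 = 1 := by
        apply Subtype.ext
        rw [hb', Subgroup.coe_pow, conj_pow, ← Subgroup.coe_pow, hb2]
        simp
      have h3 : b' ∉ zpowers c := by
        intro h
        have h4 : b' ^ 3 = 1 := by
          have := orderOf_dvd_of_mem_zpowers h
          rw [hc] at this
          exact orderOf_dvd_iff_pow_eq_one.1 this
        have h5 : b' = 1 := by
          calc b' = b' ^ 3 * (b' ^ 2)⁻¹ := by rw [eq_mul_inv_iff_mul_eq, ← pow_succ']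
            _ = 1 := by rw [h4, h2, inv_one, mul_one]
        have h6 : (b : G) = 1 := by
          have := congrArg Subtype.val h5
          exact conj_eq_one_iff.1 this
        have h7 : b = 1 := Subtype.ext h6
        rw [h7, orderOf_one] at hb
        omega
      have h4 : b' * b ∈ zpowers c := (Subgroup.mul_mem_iff_of_index_two hi).2 (by tauto)
      have h5 : (b' * b) ^ 3 = 1 := by
        have := orderOf_dvd_of_mem_zpowers h4
        rw [hc] at this
        exact orderOf_dvd_iff_pow_eq_one.1 this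
      have h6 : (f b') ^ 2 = 1 := by rw [← map_pow, h2, map_one]
      have h7 : (f b) ^ 2 = 1 := by rw [← map_pow, hb2, map_one]
      have h8 : (f b' * f b) ^ 3 = 1 := by rw [← map_mul, ← map_pow, h5, map_one]
      have h9 : (f b' * f b) ^ 2 = 1 := by rw [mul_pow, h6, h7, one_mul]
      have h10 : f b' * f b = 1 := by
        calc f b' * f b = (f b' * f b) ^ 3 * ((f b' * f b) ^ 2)⁻¹ := by rw [eq_mul_inv_iff_mul_eq, ← pow_succ']
          _ = 1 := by rw [h8, h9, inv_one, mul_one]
      calc f b' = f b' * (f b) ^ 2 := by rw [h7, mul_one]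
        _ = f b' * f b * f b := by rw [pow_two, mul_assoc]
        _ = f b := by rw [h10, one_mul]
    have e2 : c' = c ∨ c' = c⁻¹ := by
      have h2 : c' ^ 3 = 1 := by
        apply Subtype.ext
        rw [hc', Subgroup.coe_pow, conj_pow, ← Subgroup.coe_pow, hc3]
        simp
      rcases hpow c' (hmem c' h2) with h | h
      · exfalso
        have h6 : (c : G) = 1 := by
          have := congrArg Subtype.val h
          exact conj_eq_one_iff.1 this
        have h7 : c = 1 := Subtype.ext h6
        rw [h7, orderOf_one] at hc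
        omega
      · exact h
    rcases e2 with h | h
    · left
      simp only [e1, h]
    · right
      simp only [e1, h]

/-- the dihedral group of order 8: the elements which are not involutions are `c`, `c⁻¹` -/
theorem orb_eight (hK : IsComp p (P : Subgroup G) K) {c : K} (hc : c ^ 2 ≠ 1)
    (hcu : ∀ d : K, d ^ 2 ≠ 1 → d = c ∨ d = c⁻¹) (hnc : ∃ a b : K, a * b ≠ b * a) {θ : IrrCharacter K}
    (h1 : (θ : K → ℂ) 1 = 1) : (orb P K (θ : K → ℂ)).card ≤ 2 := by
  obtain ⟨f, hf⟩ := Cfsg.Agent.Characters.Linear.exists_hom_of_isIrrCharacter θ.2 h1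
  -- the centralizer of `c` is `⟨c⟩`
  have hcent : ∀ x : K, x * c = c * x → x ∈ zpowers c := by
    intro x hx
    by_cases h2 : x ^ 2 = 1
    · have h3 : (x * c) ^ 2 ≠ 1 := by
        rw [(show Commute x c from hx).mul_pow, h2, one_mul]
        exact hc
      rcases hcu _ h3 with h4 | h4
      · rw [mul_eq_right.1 h4]
        exact one_mem _
      · have h5 : x = c⁻¹ * c⁻¹ := by rw [eq_mul_inv_iff_mul_eq, h4]
        rw [h5]
        exact mul_mem (inv_mem (mem_zpowers c)) (inv_mem (mem_zpowers c))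
    · rcases hcu _ h2 with h3 | h3
      · rw [h3]; exact mem_zpowers c
      · rw [h3]; exact inv_mem (mem_zpowers c)
  have hb : ∃ b : K, b * c ≠ c * b := by
    by_contra hno
    push Not at hno
    obtain ⟨a, b, hab⟩ := hnc
    obtain ⟨i, rfl⟩ := mem_zpowers_iff.1 (hcent a (hno a))
    obtain ⟨j, rfl⟩ := mem_zpowers_iff.1 (hcent b (hno b))
    exact hab ((Commute.refl c).zpow_zpow i j)
  obtain ⟨b, hb⟩ := hb
  have hsq : ∀ x : K, x * c ≠ c * x → x ^ 2 = 1 ∧ x * c * x⁻¹ = c⁻¹ := by
    intro x hx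
    constructor
    · by_contra h2
      rcases hcu x h2 with h3 | h3
      · exact hx (by rw [h3])
      · exact hx (by rw [h3, inv_mul_cancel, mul_inv_cancel])
    · have h2 : (x * c * x⁻¹) ^ 2 ≠ 1 := by
        rw [conj_pow, Ne, conj_eq_one_iff]
        exact hc
      rcases hcu _ h2 with h3 | h3
      · exact absurd (by rw [mul_inv_eq_iff_eq_mul] at h3; exact h3) hx
      · exact h3
  have hfc : (f c) ^ 2 = 1 := by
    have h2 := congrArg f (hsq b hb).2
    rw [map_mul, map_mul, map_inv, map_inv, mul_right_comm, mul_inv_cancel, one_mul] at h2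
    rw [pow_two]
    nth_rewrite 2 [h2]
    rw [mul_inv_cancel]
  refine orb_le_two hK h1 b c ?_ (1, (f c : ℂ)) (-1, (f c : ℂ)) ?_
  · intro f g h2 h3
    ext x
    congr 1
    have h4 : ∀ y ∈ zpowers c, f y = g y := by
      intro y hy
      obtain ⟨k, rfl⟩ := mem_zpowers_iff.1 hy
      rw [map_zpow, map_zpow, h3]
    by_cases hx : x * c = c * x
    · exact h4 x (hcent x hx)
    · have h5 : x * b⁻¹ ∈ zpowers c := by
        refine hcent _ ?_
        have e1 := (hsq x hx).2
        have e2 : b⁻¹ * c * b = c⁻¹ := by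
          have h6 := (hsq b hb).1
          have h7 : b⁻¹ = b := by rw [inv_eq_iff_mul_eq_one, ← pow_two, h6]
          rw [h7]
          have h8 := (hsq b hb).2
          rwa [h7] at h8
        have e3 : b⁻¹ * c = c⁻¹ * b⁻¹ := by rw [← e2]; group
        have e4 : x * c⁻¹ = c * x := by
          have h6 : x * c⁻¹ * x⁻¹ = c := by
            have := congrArg (·⁻¹) e1
            simpa [mul_assoc] using this
          exact mul_inv_eq_iff_eq_mul.1 h6
        rw [mul_assoc, e3, ← mul_assoc, e4, mul_assoc]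
      have h6 := h4 _ h5
      rw [map_mul, map_mul, map_inv, map_inv, h2] at h6
      exact mul_right_cancel h6
  · intro n hn
    rw [hf]
    set b' : K := ⟨n * b * n⁻¹, conj_mem hK hn b.2⟩ with hb'
    set c' : K := ⟨n * c * n⁻¹, conj_mem hK hn c.2⟩ with hc'
    have e1 : (f b') ^ 2 = 1 := by
      have h2 : b' ^ 2 = 1 := by
        apply Subtype.ext
        rw [hb', Subgroup.coe_pow, conj_pow, ← Subgroup.coe_pow, (hsq b hb).1]
        simp
      rw [← map_pow, h2, map_one]
    have e2 : f c' = f c := by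
      have h2 : c' ^ 2 ≠ 1 := by
        intro h
        apply hc
        apply Subtype.ext
        have h3 := congrArg Subtype.val h
        rw [hc', Subgroup.coe_pow, conj_pow] at h3
        rw [Subgroup.coe_pow]
        exact conj_eq_one_iff.1 h3
      rcases hcu c' h2 with h | h
      · rw [h]
      · rw [h, map_inv, inv_eq_iff_mul_eq_one, ← pow_two, hfc]
    have e3 : (f b' : ℂ) = 1 ∨ (f b' : ℂ) = -1 := by
      have h2 : ((f b' : ℂˣ) : ℂ) * ((f b' : ℂˣ) : ℂ) = 1 := by
        rw [← Units.val_mul, ← pow_two, e1, Units.val_one]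
      exact mul_self_eq_one_iff.1 h2
    rcases e3 with h | h
    · left
      simp only [e2, h]
    · right
      simp only [e2, h]

/-! ### The values of the columns -/

open Cfsg.Agent.H653.Sieve (csum csum_eq csum_eq_erase orb_apply_one sum_orb_one orb_sq_le) 
open Cfsg.Agent.SmallSimple.TheoremCCor Cfsg.Agent.SmallSimple.PrimeDual Cfsg.Agent.SmallSimple.ThetaCount
open Cfsg.Agent.SmallSimple.PrimeLocal
open scoped ComplexConjugate

section

variable [Fintype (IrrCharacter G)]

/-- The values of the column of `P`, with the orbits. -/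
theorem exists_value' (hK : IsComp p (P : Subgroup G) K) (hP : Nat.card P = p) {e t : ℕ}
    (he : (centralizer ((P : Subgroup G) : Set G)).relIndex (normalizer ((P : Subgroup G) : Set G)) = e)
    (ht : e * t = p - 1) (χ : IrrCharacter G) :
    ∃ w : ℤ, (e : ℂ) * w = csum (P : Subgroup G) (χ : G → ℂ) ∧ (w = 0 ∨ ∃ (θ : IrrCharacter K) (n : ℕ) (s : ℤ),
      (θ : K → ℂ) 1 = n ∧ (s = 1 ∨ s = -1) ∧ (orb P K (θ : K → ℂ)).card * (n * n) ≤ Nat.card K ∧
      0 < (orb P K (θ : K → ℂ)).card ∧
      (w = s * (t * (orb P K (θ : K → ℂ)).card * n) ∨ w = s * n)) := by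
  classical
  have hp : Fact p.Prime := inferInstance
  have hPf := Fintype.ofFinite (P : Subgroup G)
  by_cases hv : ∃ g : G, p ∣ orderOf g ∧ (χ : G → ℂ) g ≠ 0
  · obtain ⟨θ, hθ⟩ := exists_mem_Over hK hP (χ := χ) hv
    set m := (orb P K (θ : K → ℂ)).card with hm
    obtain ⟨n, hn0, hn1⟩ := isIrr_apply_one θ.2
    have hn : (θ : K → ℂ) 1 = n := hn1
    have hdeg : charDegree (θ : K → ℂ) = n := by
      unfold charDegree
      rw [hn]; simp
    have hcm := card_stabAct_mul_card_orb hK hP θ.2
    rw [he, ← hm] at hcm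
    set eθ := Nat.card (stabAct hK (θ : K → ℂ)) with heθ
    have het : eθ * (m * t) = p - 1 := by rw [← mul_assoc, hcm, ht]
    obtain ⟨NE, X, ε, d, S, hB, -, hNE, hX, hε, hd, hval, hvalX, -, -, -⟩ := theoremC hK hP θ.2 heθ.symm het
    have hm0 : 0 < m := by
      rcases Nat.eq_zero_or_pos m with h | h
      · rw [h, zero_mul, mul_zero] at het
        have := hp.out.two_le
        omega
      · exact h
    have hsq := orb_sq_le hK θ.2
    rw [hdeg] at hsq
    have hnK : n ∣ Nat.card K := by
      rw [← hdeg]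
      exact Blocks.Knorr.charDegree_dvd θ.2
    have hpp : (p : ℂ) - 1 = (e : ℂ) * t := by
      have h3 : p = e * t + 1 := by have := hp.out.two_le; omega
      rw [h3]; push_cast; ring
    have hcsum : csum (P : Subgroup G) (χ : G → ℂ) =
        ∑ x ∈ (Finset.univ : Finset (P : Subgroup G)).erase 1, (χ : G → ℂ) x := csum_eq_erase _ _
    have hcard : ((Finset.univ : Finset (P : Subgroup G)).erase 1).card = p - 1 := by
      rw [Finset.card_erase_of_mem (Finset.mem_univ _), Finset.card_univ, ← Nat.card_eq_fintype_card]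
      exact congrArg (· - 1) hP
    rcases (hB χ).1 hθ with h | h
    · -- nonexceptional
      refine ⟨ε χ * (t * m * n), ?_, Or.inr ⟨θ, n, ε χ, hn, hε χ h, hsq.1, hm0, Or.inl rfl⟩⟩
      rw [hcsum, Finset.sum_congr rfl (g := fun _ => (ε χ : ℂ) * (m * n))]
      · rw [Finset.sum_const, hcard, nsmul_eq_mul, ← ht]
        push_cast
        ring
      · intro x hx
        have hx1 : x ≠ 1 := (Finset.mem_erase.1 hx).1
        have h2 := apply_of_const hK hP θ.2 hθ (hval χ h) hx1 (1 : K)
        rw [sum_orb_one hK, ← hm, hn] at h2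
        simpa using h2
    · -- exceptional
      obtain ⟨hSc, hS1, -, hSv⟩ := hvalX χ h
      refine ⟨-d * n, ?_, Or.inr ⟨θ, n, -d, hn, by rcases hd with rfl | rfl <;> simp, hsq.1, hm0, Or.inr rfl⟩⟩
      -- the sum of a part
      have hpart : ∑ x ∈ (Finset.univ : Finset (P : Subgroup G)).erase 1, part (θ : K → ℂ) (χ : G → ℂ) x =
          -(d : ℂ) * eθ := by
        have h2 := SmallSimple.TheoremBCor.sum_exc_off (f := fun x : (P : Subgroup G) => part (θ : K → ℂ) (χ : G → ℂ) x)
          (d := (d : ℂ)) hS1 hSv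
        rw [hSc] at h2
        rw [← Finset.add_sum_erase _ _ (Finset.mem_univ (1 : (P : Subgroup G)))] at h2
        linear_combination h2
      have horb : ∀ θ' ∈ orb P K (θ : K → ℂ),
          ∑ x ∈ (Finset.univ : Finset (P : Subgroup G)).erase 1, part (θ' : K → ℂ) (χ : G → ℂ) x = -(d : ℂ) * eθ := by
        intro θ' hθ'
        obtain ⟨g, hg, hgθ⟩ := mem_orb.1 hθ'
        rw [← hpart, ← hgθ]
        have h3 : ∀ x : (P : Subgroup G), part (tw (θ : K → ℂ) g) (χ : G → ℂ) x =
            part (θ : K → ℂ) (χ : G → ℂ) (cP hg x : (P : Subgroup G)) := by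
          intro x
          rw [← part_conj hK _ (isIrr_isClassFunction χ.2) hg, coe_cP]
        rw [Finset.sum_congr rfl fun x _ => h3 x]
        refine Finset.sum_bij (fun x _ => cP hg x) ?_ ?_ ?_ ?_
        · intro x hx
          rw [Finset.mem_erase] at hx ⊢
          refine ⟨fun h4 => hx.1 ?_, Finset.mem_univ _⟩
          exact (MulEquiv.map_eq_one_iff (cP hg)).1 h4
        · intro x _ y _ h4
          exact (cP hg).injective h4
        · intro y hy
          rw [Finset.mem_erase] at hy
          refine ⟨(cP hg).symm y, ?_, by simp⟩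
          rw [Finset.mem_erase]
          refine ⟨fun h4 => hy.1 ?_, Finset.mem_univ _⟩
          have h5 := congrArg (cP hg) h4
          rwa [MulEquiv.apply_symm_apply, map_one] at h5
        · intro x _
          rfl
      rw [hcsum]
      have h2 : ∀ x ∈ (Finset.univ : Finset (P : Subgroup G)).erase 1, (χ : G → ℂ) x =
          ∑ θ' ∈ orb P K (θ : K → ℂ), part (θ' : K → ℂ) (χ : G → ℂ) x * n := by
        intro x hx
        have hx1 : x ≠ 1 := (Finset.mem_erase.1 hx).1
        have h3 := apply_mul_orb hK hP θ.2 hθ hx1 (1 : K)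
        rw [Subgroup.coe_one, mul_one] at h3
        rw [h3]
        exact Finset.sum_congr rfl fun θ' h4 => by rw [orb_apply_one hK h4, hn]
      rw [Finset.sum_congr rfl h2, Finset.sum_comm]
      have h3 : ∀ θ' ∈ orb P K (θ : K → ℂ),
          ∑ x ∈ (Finset.univ : Finset (P : Subgroup G)).erase 1, part (θ' : K → ℂ) (χ : G → ℂ) x * (n : ℂ) =
            -(d : ℂ) * eθ * n := by
        intro θ' h4
        rw [← Finset.sum_mul, horb θ' h4]
      rw [Finset.sum_congr rfl h3, Finset.sum_const, ← hm, nsmul_eq_mul, ← hcm]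
      push_cast
      ring
  · refine ⟨0, ?_, Or.inl rfl⟩
    push Not at hv
    rw [csum_eq_erase, Finset.sum_eq_zero]
    · simp
    · intro x hx
      apply hv
      have hx1 : (x : G) ≠ 1 := fun e => (Finset.mem_erase.1 hx).1 (Subtype.ext e)
      rw [Blocks.CyclicOrtho.orderOf_eq P hP x.2 hx1]

/-- the column does not take the values `3`, `-3` -/
theorem ne_three (hK : IsComp p (P : Subgroup G) K) (hP : Nat.card P = p) {e : ℕ}
    (he : (centralizer ((P : Subgroup G) : Set G)).relIndex (normalizer ((P : Subgroup G) : Set G)) = e)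
    (he1 : e * 1 = p - 1) (h8 : Nat.card K ≤ 8)
    (horb : ∀ θ : IrrCharacter K, (θ : K → ℂ) 1 = 1 → (orb P K (θ : K → ℂ)).card ≤ 2) (χ : IrrCharacter G) {w : ℤ}
    (hw : (e : ℂ) * w = csum (P : Subgroup G) (χ : G → ℂ)) : w ≠ 3 ∧ w ≠ -3 := by
  have hp : p.Prime := Fact.out
  have he0 : (e : ℂ) ≠ 0 := by
    have := hp.two_le
    have : e ≠ 0 := by omega
    exact_mod_cast this
  obtain ⟨w', h1, h2⟩ := exists_value' hK hP he he1 χ
  have h3 : w' = w := by
    have h4 : (e : ℂ) * w' = e * w := h1.trans hw.symm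
    exact_mod_cast mul_left_cancel₀ he0 h4
  subst h3
  rcases h2 with h2 | ⟨θ, n, s, h3, hs, hle, hpos, h4⟩
  · subst h2
    exact ⟨by norm_num, by norm_num⟩
  · set m := (orb P K (θ : K → ℂ)).card with hm
    have hn : n ≤ 2 := by
      by_contra hn
      have h5 : 1 * (3 * 3) ≤ m * (n * n) := Nat.mul_le_mul hpos (Nat.mul_le_mul (by omega) (by omega))
      omega
    have key : w'.natAbs ≠ 3 := by
      rcases h4 with h4 | h4
      · rw [h4, Int.natAbs_mul]
        have a1 : s.natAbs = 1 := by rcases hs with rfl | rfl <;> rfl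
        have a2 : (((1 : ℕ) : ℤ) * (m : ℤ) * (n : ℤ)).natAbs = m * n := by
          rw [Nat.cast_one, one_mul, ← Nat.cast_mul, Int.natAbs_natCast]
        rw [a1, a2, one_mul]
        intro h5
        interval_cases n
        · omega
        · have h6 := horb θ (by rw [h3]; simp)
          omega
        · omega
      · rw [h4, Int.natAbs_mul, Int.natAbs_natCast]
        have a1 : s.natAbs = 1 := by rcases hs with rfl | rfl <;> rfl
        rw [a1]
        omega
    exact ⟨fun h => key (by rw [h]; rfl), fun h => key (by rw [h]; rfl)⟩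

end

/-- `|N(P) : C(P)| = e` from the orders -/
def relOK (N p k e t : ℕ) : Bool :=
  (p != 2) && (N % p == 0) && (N % (p ^ 2) != 0) && (e * t == p - 1) &&
  ((List.range p).all fun e' => (e' == e) || ((p - 1) % e' != 0) || (N % (p * e' * k) != 0) ||
    ((N / (p * e' * k)) % p != 1))

/-- The local structure at `p` from the orders. -/
theorem exists_rel {G : Type u} [Group G] [Finite G] [IsSimpleGroup G] (hG : ¬ IsMulCommutative G) {p : ℕ}
    [hp : Fact p.Prime] {N : ℕ} (hN : Nat.card G = N) {x : G} (hx : orderOf x = p) {k : ℕ}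
    (hc : Nat.card (centralizer ({x} : Set G)) = p * k) (e t : ℕ) (hnum : relOK N p k e t = true) :
    ∃ (P : Sylow p G) (K : Subgroup G), Nat.card P = p ∧ p ≠ 2 ∧ e ≠ 0 ∧ e * t = p - 1 ∧
      (P : Subgroup G) = zpowers x ∧ IsComp p (P : Subgroup G) K ∧ Nat.card K = k ∧
      Nat.card (normalizer ((P : Subgroup G) : Set G)) = p * e * k ∧
      (centralizer ((P : Subgroup G) : Set G)).relIndex (normalizer ((P : Subgroup G) : Set G)) = e := by
  classical
  simp only [relOK, Bool.and_eq_true, bne_iff_ne, beq_iff_eq, ne_eq] at hnum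
  obtain ⟨⟨⟨⟨hp2, hN0⟩, hN1⟩, ht⟩, huniq⟩ := hnum
  have h1 : p ∣ Nat.card G := by rw [hN]; exact Nat.dvd_of_mod_eq_zero hN0
  have h2 : ¬ p ^ 2 ∣ Nat.card G := by
    rw [hN]; exact fun h => hN1 (Nat.mod_eq_zero_of_dvd h)
  -- the Sylow subgroup
  have hpg : IsPGroup p (zpowers x) := IsPGroup.of_card (n := 1) (by rw [Nat.card_zpowers, hx, pow_one])
  obtain ⟨P, hxP⟩ := hpg.exists_le_sylow
  have hP : Nat.card P = p := card_of_not_sq_dvd h1 h2 P
  have hPx : (P : Subgroup G) = zpowers x := by
    have h3 : Nat.card (zpowers x) = Nat.card (P : Subgroup G) := by rw [Nat.card_zpowers, hx]; exact hP.symm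
    exact (Subgroup.eq_of_le_of_card_ge hxP h3.ge).symm
  obtain ⟨e', K, hL⟩ := exists_local hG h1 h2 P
  have hCx : centralizer ((P : Subgroup G) : Set G) = centralizer ({x} : Set G) := by
    rw [hPx, SmallSimple.SelfCentPrime.centralizer_zpowers]
  have hCP : Nat.card (centralizer ((P : Subgroup G) : Set G)) = p * k := by rw [hCx, hc]
  have hKk : Nat.card K = k := by
    have h3 : p * Nat.card K = p * k := by rw [← hL.card_centralizer]; exact hCP
    exact Nat.eq_of_mul_eq_mul_left hp.out.pos h3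
  have hN' : Nat.card (normalizer ((P : Subgroup G) : Set G)) = p * e' * k := by
    have := hL.card_normalizer
    rw [hKk] at this
    exact this
  have hrel : (centralizer ((P : Subgroup G) : Set G)).relIndex (normalizer ((P : Subgroup G) : Set G)) = e' := by
    have hle : centralizer ((P : Subgroup G) : Set G) ≤ normalizer ((P : Subgroup G) : Set G) :=
      centralizer_le_normalizer _
    have h3 := Subgroup.index_mul_card ((centralizer ((P : Subgroup G) : Set G)).subgroupOf
      (normalizer ((P : Subgroup G) : Set G)))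
    rw [Nat.card_congr (Subgroup.subgroupOfEquivOfLe hle).toEquiv, hCP, hN'] at h3
    have hk : 0 < k := by rw [← hKk]; exact Nat.card_pos
    have h4 : 0 < p * k := Nat.mul_pos hp.out.pos hk
    apply Nat.eq_of_mul_eq_mul_right h4
    rw [Subgroup.relIndex, h3]; ring
  have hee : e' = e := by
    by_contra hne
    have hlt : e' < p := by
      have := Nat.le_of_dvd (by have := hp.out.two_le; omega) hL.dvd_pred
      have := hp.out.two_le
      omega
    have h3 := List.all_eq_true.1 huniq e' (List.mem_range.2 hlt)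
    have hce := hL.card_eq
    rw [hKk, hN] at hce
    have hpos : 0 < p * e' * k := by
      have hk : 0 < k := by rw [← hKk]; exact Nat.card_pos
      have he1 := hL.one_lt
      exact Nat.mul_pos (Nat.mul_pos hp.out.pos (by omega)) hk
    have h4 : N % (p * e' * k) = 0 := by rw [hce]; exact Nat.mul_mod_left _ _
    have h5 : N / (p * e' * k) = Nat.card (Sylow p G) := by rw [hce]; exact Nat.mul_div_cancel _ hpos
    have h6 : Nat.card (Sylow p G) % p = 1 := by
      have h7 := card_sylow_modEq_one p G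
      have h8 : Nat.card (Sylow p G) % p = 1 % p := h7
      rw [h8, Nat.mod_eq_of_lt hp.out.one_lt]
    have h7 : (p - 1) % e' = 0 := Nat.mod_eq_zero_of_dvd hL.dvd_pred
    simp only [Bool.or_eq_true, beq_iff_eq, bne_iff_ne, ne_eq] at h3
    rcases h3 with ((h3 | h3) | h3) | h3
    · exact hne h3
    · exact h3 h7
    · exact h3 h4
    · rw [h5] at h3; exact h3 h6
  subst hee
  have he0 : e' ≠ 0 := by have := hL.one_lt; omega
  obtain ⟨K', hK'⟩ := exists_isComp P hP
  have hK'c : Nat.card K' = k := by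
    have h3 := SmallSimple.ThetaOrtho.card_centralizer hK' hP
    rw [hCP] at h3
    exact (Nat.eq_of_mul_eq_mul_left hp.out.pos h3).symm
  exact ⟨P, K', hP, hp2, he0, ht, hPx, hK', hK'c, hN', hrel⟩

/-- The column of `p` with the local structure. -/
theorem exists_col' {G : Type u} [Group G] [Finite G] [Fintype (IrrCharacter G)] [IsSimpleGroup G]
    (hG : ¬ IsMulCommutative G) {p : ℕ} [hp : Fact p.Prime] {N : ℕ} (hN : Nat.card G = N) {x : G} (hx : orderOf x = p)
    {k : ℕ} (hc : Nat.card (centralizer ({x} : Set G)) = p * k) (e t : ℕ) (hnum : relOK N p k e t = true)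
    (wl : List (ℕ × ℤ)) (hwl : H653.Sieve.wlOK p e t k wl = true) :
    ∃ (P : Sylow p G) (K : Subgroup G) (W : IrrCharacter G → ℤ), Nat.card P = p ∧ e ≠ 0 ∧ e * t = p - 1 ∧
      (P : Subgroup G) = zpowers x ∧ IsComp p (P : Subgroup G) K ∧ Nat.card K = k ∧
      Nat.card (normalizer ((P : Subgroup G) : Set G)) = p * e * k ∧
      (centralizer ((P : Subgroup G) : Set G)).relIndex (normalizer ((P : Subgroup G) : Set G)) = e ∧
      H653.Sieve.IsCol (P : Subgroup G) e W ∧ (∀ χ : IrrCharacter G, (charDegree (χ : G → ℂ) % p, W χ) ∈ wl) ∧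
      ∀ χ : IrrCharacter G, (χ : G → ℂ) = 1 → W χ = t := by
  obtain ⟨P, K, hP, -, he0, ht, hPx, hK, hk, hN', hrel⟩ := exists_rel hG hN hx hc e t hnum
  have hval := fun χ : IrrCharacter G => H653.Sieve.exists_value hK hP hrel ht χ
  choose W hW1 hW2 using hval
  have hcol : H653.Sieve.IsCol (P : Subgroup G) e W := hW1
  refine ⟨P, K, W, hP, he0, ht, hPx, hK, hk, hN', hrel, hcol, fun χ => ?_, fun χ hχ => ?_⟩
  · have h3 := hcol.dvd χ
    have h4 : Nat.card (P : Subgroup G) = p := hP
    rw [h4] at h3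
    have h5 := hW2 χ
    rw [hk] at h5
    exact H653.Sieve.mem_wl hwl ht h3 h5
  · exact hcol.one he0 (by rw [show Nat.card (P : Subgroup G) = p from hP]; exact ht) hχ

/-- The values of a column with residue conditions. -/
def wvs (q : ℕ) (wl : List (ℕ × ℤ)) (fl : List (ℕ × List ℕ)) (d : ℕ) : List ℤ :=
  bif fl.all (fun f => f.2.any fun r => Nat.beq (d % f.1) r) then
    (wl.filter fun x => Nat.beq x.1 (d % q)).map Prod.snd else []

/-- **The search with one column and residue conditions.** -/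
theorem evAt_of_cols {G : Type u} [Group G] [Finite G] [Fintype (IrrCharacter G)] [IsSimpleGroup G]
    (hG : ¬ IsMulCommutative G) {N : ℕ} (hN : Nat.card G = N) {p : ℕ} [hp : Fact p.Prime] {x : G} (hx : orderOf x = p)
    {k : ℕ} (hc : Nat.card (centralizer ({x} : Set G)) = p * k) (e t : ℕ) (hnum : relOK N p k e t = true)
    {q : ℕ} [hq : Fact q.Prime] (hqp : q ≠ p) {Q : Sylow q G} (hQ : Nat.card Q = q) {f : ℕ} (hf : f ≠ 0)
    {W : IrrCharacter G → ℤ} (hW : H653.Sieve.IsCol (Q : Subgroup G) f W) (s : ℤ)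
    (hW1 : ∀ χ : IrrCharacter G, (χ : G → ℂ) = 1 → W χ = s) (wl : List (ℕ × ℤ))
    (hWm : ∀ χ : IrrCharacter G, (charDegree (χ : G → ℂ) % q, W χ) ∈ wl) (fl : List (ℕ × List ℕ))
    (hfl : ∀ g ∈ fl, ∀ χ : IrrCharacter G, charDegree (χ : G → ℂ) % g.1 ∈ g.2)
    (L : List (ℕ × ℕ)) (hL : (L.all fun pa => Nat.Prime pa.1) = true) (hLN : H653.Sieve.facProd L = N)
    (A B : List (ℤ × ℤ))
    (hch : H653.Sieve.allDiv N (candOK N p e (wvs q wl fl) A B) L 1 = true)
    (hs : (B.all fun b => !(srch A (e - 1) (b.1 - 1) (b.2 - s))) = true) : H892.EP.EvAt p G := by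
  obtain ⟨P, K, hP, hp2, he0, ht, hPx, hK, hk, hN', hrel⟩ := exists_rel hG hN hx hc e t hnum
  have hnp : ¬ (Nat.card G).Prime := by
    intro h
    have := Fact.mk h
    have : IsCyclic G := isCyclic_of_prime_card rfl
    exact hG inferInstance
  refine evAt_of_srch hp2 P hP hrel ht N hN (fun χ h => H653.Sieve.one_of_deg hnp χ h) W ?_ s hW1 (wvs q wl fl) ?_ L hL
    hLN A B hch hs
  · obtain ⟨S, g, h1, h2⟩ := H653.Sys.supp_of_isCol hQ hf hW
    refine ⟨S, g, h1, fun y hy h => hqp ?_⟩
    have h3 := h2 y hy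
    rw [List.mem_singleton] at h3
    rw [h3] at h
    exact ((Nat.prime_dvd_prime_iff_eq hp.out hq.out).1 h).symm
  · intro χ
    have h1 : (fl.all fun f => f.2.any fun r => Nat.beq (charDegree (χ : G → ℂ) % f.1) r) = true := by
      rw [List.all_eq_true]
      intro g hg
      rw [List.any_eq_true]
      exact ⟨_, hfl g hg χ, Nat.beq_refl _⟩
    rw [wvs, h1, cond_true, List.mem_map]
    exact ⟨_, List.mem_filter.2 ⟨hWm χ, Nat.beq_refl _⟩, rfl⟩

end Cfsg.Agent.H217.EP
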